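import Cfsg.Agent.E8A.Asm.Iface
import Cfsg.Agent.E8A.Fix.Line

/-!
# Optimal cocharacters, abstract form (helper8)

* `KS D` : a class `D g lam` of destabilizing pairs; `Opt D g lam`; `KS.exists_opt`, `KS.rel`;
* `KS.endgame` : a class without `lam = 0`, stable under the Frobenius map, gives a nontrivial rational `p`-group;
* `Up l l' M` : triangular matrices; `St_le_PL` : the stabilizer of the filtration is the parabolic subgroup.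
-/

set_option autoImplicit false
set_option maxRecDepth 100000

namespace Cfsg.Agent.E8A.Par

open CoxeterSystem Cfsg Cfsg.Lie Matrix
open Cfsg.Agent.ChevalleyStructure Cfsg.Agent.ChevalleyStructure.Elts Cfsg.Agent.ChevalleyStructure.CoxeterGeom
  Cfsg.Agent.ChevalleyStructure.CoxeterGeomTypes
open Cfsg.Agent.Tits.Roots Cfsg.Agent.Nodes.Reps Cfsg.Agent.Nodes.BNOf Cfsg.Agent.Nodes.RGDChev
  Cfsg.Agent.Nodes.NormalForm
open Cfsg.Agent.KFacts.RgdChevCoord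
open Cfsg.Agent.H942.E8Tab (e8T)
open Cfsg.Agent.H288.E8L (wt act8)
open Cfsg.Agent.E8A.Kem (cw cw_apply nrm nrm_cw sq_le_nrm nrm_mid eq_of_nrm mk mk_apply mk_sr mk_eq continuous_mk
  continuous_nrm Dm exists_dm Ge mem_Ge SP PL St sp_le_PL rep_mem_PL PL_le_St par_end)

universe u

section Abs

variable {K : Type u} [Field K]

/-- a class of destabilizing pairs -/
structure KS (D : G8 K → (Q8 →+ ℝ) → Prop) : Prop where
  closed : IsClosed {x : Fin 8 → ℝ | ∃ g, D g (mk x)}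
  mid : ∀ g l₁ l₂, D g l₁ → D g l₂ → D g ((1 / 2 : ℝ) • (l₁ + l₂))
  sp : ∀ g lam m, D g lam → m ∈ RGD.Sup (XX chevE8 8 K) (SP lam) → D (m * g) lam
  rep : ∀ g lam w n, D g lam → RepK w n → D (n⁻¹ * g) (cw lam w)

/-- optimal pairs -/
def Opt (D : G8 K → (Q8 →+ ℝ) → Prop) (g : G8 K) (lam : Q8 →+ ℝ) : Prop :=
  D g lam ∧ ∀ g' lam', D g' lam' → nrm lam ≤ nrm lam'

variable {D : G8 K → (Q8 →+ ℝ) → Prop}

theorem exists_opt' (hD : KS D) {g₀ : G8 K} {l₀ : Q8 →+ ℝ} (h₀ : D g₀ l₀) : ∃ g lam, Opt D g lam := by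
  obtain ⟨x₀, rfl⟩ : ∃ x₀, l₀ = mk x₀ := ⟨_, (mk_eq l₀).symm⟩
  set c := nrm (mk x₀) with hc
  set C : Set (Fin 8 → ℝ) := {x | ∃ g, D g (mk x)} ∩ {x | nrm (mk x) ≤ c} with hC
  have hcl : IsClosed C := hD.closed.inter (isClosed_le continuous_nrm continuous_const)
  have hsub : C ⊆ Set.Icc (fun _ => -(c + 1)) (fun _ => c + 1) := by
    rintro x ⟨-, hx⟩
    have h1 : ∀ i, x i ^ 2 ≤ c := fun i => by
      have := sq_le_nrm (mk x) i
      rw [mk_sr] at this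
      exact this.trans hx
    constructor
    · intro i
      show -(c + 1) ≤ x i
      nlinarith [h1 i, sq_nonneg (x i + 1), sq_nonneg (x i)]
    · intro i
      show x i ≤ c + 1
      nlinarith [h1 i, sq_nonneg (x i - 1), sq_nonneg (x i)]
  have hcp : IsCompact C := isCompact_Icc.of_isClosed_subset hcl hsub
  obtain ⟨x, ⟨⟨g, hg⟩, hx⟩, hmin⟩ := hcp.exists_isMinOn ⟨x₀, ⟨g₀, h₀⟩, hc.ge⟩ continuous_nrm.continuousOn
  refine ⟨g, mk x, hg, fun g' lam' h' => ?_⟩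
  by_cases hl : nrm lam' ≤ c
  · have h2 : (fun i => lam' (sr i)) ∈ C := ⟨⟨g', by rwa [mk_eq]⟩, by show nrm (mk _) ≤ c; rwa [mk_eq]⟩
    have h3 : nrm (mk x) ≤ nrm (mk fun i => lam' (sr i)) := hmin h2
    rwa [mk_eq] at h3
  · exact le_trans hx (not_le.1 hl).le

theorem Opt.of {g g' : G8 K} {lam lam' : Q8 →+ ℝ} (h : Opt D g lam) (h' : D g' lam') (e : nrm lam' = nrm lam) :
    Opt D g' lam' := ⟨h', fun g'' lam'' h'' => e ▸ h.2 g'' lam'' h''⟩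

theorem KS.exists_opt (hD : KS D) {g₀ : G8 K} {l₀ : Q8 →+ ℝ} (h₀ : D g₀ l₀) : ∃ g lam, Opt D g lam ∧ Dm lam := by
  obtain ⟨g, lam, h⟩ := exists_opt' hD h₀
  obtain ⟨w, hw⟩ := exists_dm lam
  obtain ⟨n, hn⟩ := exists_rp cs8 (nsysK K) w
  exact ⟨n⁻¹ * g, cw lam w, h.of (hD.rep _ _ _ _ h.1 hn) (nrm_cw lam w), hw⟩

theorem KS.unique (hD : KS D) {g : G8 K} {l₁ l₂ : Q8 →+ ℝ} (h₁ : Opt D g l₁) (h₂ : Opt D g l₂) : l₁ = l₂ := by
  have hm := hD.mid _ _ _ h₁.1 h₂.1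
  have e₁ := h₁.2 _ _ hm
  have e₂ := h₂.2 _ _ hm
  rw [nrm_mid] at e₁ e₂
  exact eq_of_nrm (by linarith)

/-- **the parabolic subgroup is canonical** -/
theorem KS.rel (hD : KS D) {g₁ g₂ : G8 K} {lam : Q8 →+ ℝ} (hd : Dm lam) (h₁ : Opt D g₁ lam) (h₂ : D g₂ lam) :
    g₂ * g₁⁻¹ ∈ PL K lam := by
  obtain ⟨u, hu, w, n, hn, u', hu', e⟩ := bruhat (g₂ * g₁⁻¹)
  have hu1 : u ∈ RGD.Sup (XX chevE8 8 K) (SP lam) := hd.U_le hu
  have hu2 : u' ∈ RGD.Sup (XX chevE8 8 K) (SP lam) :=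
    RGD.Sup_mono (S' := SP lam) (fun _ ha => ⟨ha.1, hd.nonneg ha.2.1⟩) hu'
  have d₁ : D (u' * g₁) lam := hD.sp _ _ _ h₁.1 hu2
  have d₂ : D (n⁻¹ * (u⁻¹ * g₂)) (cw lam w) := hD.rep _ _ _ _ (hD.sp _ _ _ h₂ (inv_mem hu1)) hn
  have e' : n⁻¹ * (u⁻¹ * g₂) = u' * g₁ := by
    rw [show g₂ = u * n * u' * g₁ by rw [← e]; group]
    group
  rw [e'] at d₂
  have hw : cw lam w = lam := hD.unique (h₁.of d₂ (nrm_cw lam w)) (h₁.of d₁ rfl)
  rw [e]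
  exact mul_mem (mul_mem (sp_le_PL lam hu1) (rep_mem_PL hd _ w n rfl hn hw)) (sp_le_PL lam hu2)

theorem exists_pos {lam : Q8 →+ ℝ} (hd : Dm lam) (h0 : lam ≠ 0) : ∃ i, 0 < lam (sr i) := by
  by_contra hc
  push Not at hc
  exact h0 (Frm.hom_ext fun i => le_antisymm (hc i) (hd i))

theorem SP_smul (lam : Q8 →+ ℝ) {c : ℝ} (hc : 0 < c) : SP (c • lam) = SP lam := by
  ext a
  show Rt a ∧ 0 ≤ (c • lam) a ↔ Rt a ∧ 0 ≤ lam a
  rw [AddMonoidHom.smul_apply, smul_eq_mul, mul_nonneg_iff_of_pos_left hc]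

theorem PL_smul (lam : Q8 →+ ℝ) {c : ℝ} (hc : 0 < c) : PL K (c • lam) = PL K lam := by
  ext y
  rw [Kem.mem_PL, Kem.mem_PL, SP_smul lam hc]

/-! ### triangular matrices -/

/-- triangular matrices -/
def Up (l l' : Q8 →+ ℝ) (M : Matrix chevE8.Idx chevE8.Idx K) : Prop := ∀ i j, M i j ≠ 0 → l (wt j) ≤ l' (wt i)

theorem Up.mul {l₁ l₂ l₃ : Q8 →+ ℝ} {M N : Matrix chevE8.Idx chevE8.Idx K} (hM : Up l₂ l₃ M) (hN : Up l₁ l₂ N) :
    Up l₁ l₃ (M * N) := by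
  intro i j h
  rw [Matrix.mul_apply] at h
  obtain ⟨k, -, hk⟩ := Finset.exists_ne_zero_of_sum_ne_zero h
  exact (hN k j (right_ne_zero_of_mul hk)).trans (hM i k (left_ne_zero_of_mul hk))

theorem Up.LS {l l' : Q8 →+ ℝ} {y : G8 K} (h : Up l l' (mx y)) (c : ℝ) {v : L8 K} (hv : v ∈ LS K (Ge l c)) :
    act y v ∈ LS K (Ge l' c) :=
  mulVec_LS (fun i j hij hj => mem_Ge.2 ((mem_Ge.1 hj).trans (h i j hij))) hv

theorem up_of_LS {l l' : Q8 →+ ℝ} {y : G8 K} (h : ∀ c, ∀ v ∈ LS K (Ge l c), act y v ∈ LS K (Ge l' c)) :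
    Up l l' (mx y) := fun i j hij =>
  mem_Ge.1 (h (l (wt j)) (ee K j) (ee_mem_LS (mem_Ge.2 le_rfl)) i (by rwa [act_ee]))

theorem up_of_St {lam : Q8 →+ ℝ} {y : G8 K} (h : y ∈ St K lam) : Up lam lam (mx y) :=
  up_of_LS fun c _ hv => Kem.St.act h c hv

theorem mem_St {lam : Q8 →+ ℝ} {y : G8 K} (h : Up lam lam (mx y)) (h' : Up lam lam (mx y⁻¹)) : y ∈ St K lam :=
  Subgroup.mem_iInf.2 fun c => ⟨fun _ hv => h.LS c hv, fun _ hv => h'.LS c hv⟩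

theorem up_rep {lam : Q8 →+ ℝ} {w : W8} {n : G8 K} (hn : RepK w n) : Up (cw lam w) lam (mx n) := fun i j hij => by
  rw [cw_apply, ← RepK.wt hn hij]

theorem up_rep_inv {lam : Q8 →+ ℝ} {w : W8} {n : G8 K} (hn : RepK w n) : Up lam (cw lam w) (mx n⁻¹) := fun i j hij => by
  rw [cw_apply, RepK.wt (w := w⁻¹) (Rp.inv hn) hij, act8_act_inv]

theorem St_conj {lam : Q8 →+ ℝ} {w : W8} {n y : G8 K} (hn : RepK w n) (hy : y ∈ St K lam) :
    n⁻¹ * y * n ∈ St K (cw lam w) := by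
  refine mem_St ?_ ?_
  · rw [mx_mul, mx_mul]
    exact ((up_rep_inv hn).mul (up_of_St hy)).mul (up_rep hn)
  · rw [show (n⁻¹ * y * n)⁻¹ = n⁻¹ * y⁻¹ * n by group, mx_mul, mx_mul]
    exact ((up_rep_inv hn).mul (up_of_St (inv_mem hy))).mul (up_rep hn)

theorem cw_eq_of_up {lam : Q8 →+ ℝ} {w : W8} {n : G8 K} (hn : RepK w n) (h : Up lam lam (mx n)) : cw lam w = lam := by
  have h1 : ∀ a, Rt a → lam a ≤ lam (act8 w a) := by
    intro a ha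
    obtain ⟨r, rfl⟩ := H288.E8L.exists_idx ha
    obtain ⟨s, hs⟩ := H288.E8L.exists_idx ((H288.E8L.rt_vec r).act w)
    obtain ⟨c, hc, e⟩ := RepK.ee hn hs
    have h2 : mx n (Sum.inr s) (Sum.inr r) ≠ 0 := by
      rw [← act_ee, e, Pi.smul_apply, ee_self, smul_eq_mul, mul_one]
      exact hc
    have h3 := h _ _ h2
    rw [H288.E8L.wt_inr, H288.E8L.wt_inr, hs] at h3
    exact h3
  refine Frm.hom_ext fun i => le_antisymm ?_ (h1 _ (isRoot_sr cs8 e8T.isCartan i))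
  have h2 := h1 _ (isRoot_sr cs8 e8T.isCartan i).neg
  rw [act8_neg, map_neg, map_neg] at h2
  rw [cw_apply]
  linarith

/-- the stabilizer of the filtration is the parabolic subgroup -/
theorem St_le_PL {lam : Q8 →+ ℝ} (hd : Dm lam) : St K lam ≤ PL K lam := by
  intro y hy
  obtain ⟨u, hu, w, n, hn, u', hu', e⟩ := bruhat y
  have hu1 : u ∈ PL K lam := sp_le_PL lam (hd.U_le hu)
  have hu2 : u' ∈ PL K lam :=
    sp_le_PL lam (RGD.Sup_mono (S' := SP lam) (fun _ ha => ⟨ha.1, hd.nonneg ha.2.1⟩) hu')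
  have h1 : n ∈ St K lam := by
    rw [show n = u⁻¹ * y * u'⁻¹ by rw [e]; group]
    exact mul_mem (mul_mem (inv_mem (PL_le_St lam hu1)) hy) (inv_mem (PL_le_St lam hu2))
  rw [e]
  exact mul_mem (mul_mem hu1 (rep_mem_PL hd _ w n rfl hn (cw_eq_of_up hn (up_of_St h1)))) hu2

end Abs

/-- **endgame** -/
theorem KS.endgame {F : Type u} [Field F] [Finite F] (p : ℕ) [Fact p.Prime] [CharP F p]
    {D : G8 (Kb F) → (Q8 →+ ℝ) → Prop} (hD : KS D) {g₀ : G8 (Kb F)} {l₀ : Q8 →+ ℝ} (h₀ : D g₀ l₀)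
    (hne : ∀ g, ¬ D g 0) (hfr : ∀ g lam, D g lam → D (sg g) lam) :
    ∃ R : Subgroup (G8 F), R ≠ ⊥ ∧ IsPGroup p ↥R ∧
      ∀ h : G8 F, (∀ g lam, D g lam → D (g * emb0 h) lam) → ∀ x ∈ R, h * x * h⁻¹ ∈ R := by
  obtain ⟨e, he0, he⟩ := Frm.exists_exp (F := F) p
  obtain ⟨g, lam, ho, hd⟩ := hD.exists_opt h₀
  obtain ⟨i, hi⟩ := exists_pos hd fun h => hne g (h ▸ ho.1)
  have hc : 0 < (lam (sr i))⁻¹ := inv_pos.2 hi
  obtain ⟨r, hr⟩ := H288.E8L.exists_idx (isRoot_sr cs8 e8T.isCartan i)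
  have h1 : g * (Frm.sg F p e g)⁻¹ ∈ PL (Kb F) ((lam (sr i))⁻¹ • lam) := by
    have h2 := inv_mem (hD.rel hd ho (hfr _ _ ho.1))
    rw [_root_.mul_inv_rev, inv_inv, sg_eq_phi p he] at h2
    rw [PL_smul lam hc]
    exact h2
  obtain ⟨R, hR, hp, hn⟩ := par_end he0 he h1 (r := r) (by
    rw [hr, AddMonoidHom.smul_apply, smul_eq_mul, inv_mul_cancel₀ hi.ne'])
  refine ⟨R, hR, hp, fun h hh => hn h (PL_le_St _ ?_)⟩
  rw [PL_smul lam hc]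
  exact hD.rel hd ho (hh _ _ ho.1)

end Cfsg.Agent.E8A.Par
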