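import Cfsg.Agent.E8A.Par.Main
import Cfsg.Agent.E8A.Inf.Form
import Cfsg.Agent.E8A.Fix.RedLat
import Cfsg.Agent.KFacts.RgdFiltChev

/-!
# The boxes PARP, PARX (helper8)

* `act_xr` : `x_r(t) v = v + t [e_r, v] - t² (e_r, v) e_r`; `ux g r t`, `act_ux` : long root elements;
* `Extr x` : extremal vectors; `ux_comm` : commuting extremal vectors give commuting root elements;
* `exists_par_of_pgroup` : Borel–Tits over a locally finite field;
* `parp` : the alternating group normalises no nontrivial finite `p`-subgroup of the algebraic group;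
* `parx1`, `parx` : no stable set of pairwise commuting extremal vectors.
-/

set_option autoImplicit false
set_option maxRecDepth 100000

namespace Cfsg.Agent.E8A.Par

open CoxeterSystem Cfsg Cfsg.Lie Polynomial
open Matrix hiding J J_transpose
open Cfsg.Agent.ChevalleyStructure Cfsg.Agent.ChevalleyStructure.Elts Cfsg.Agent.ChevalleyStructure.CoxeterGeom
  Cfsg.Agent.ChevalleyStructure.CoxeterGeomTypes Cfsg.Agent.ChevalleyStructure.Ring
  Cfsg.Agent.ChevalleyStructure.JacMain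
open Cfsg.Agent.Tits.Roots Cfsg.Agent.Nodes.Reps Cfsg.Agent.Nodes.BNOf Cfsg.Agent.Nodes.RGDChev
  Cfsg.Agent.Nodes.NormalForm
open Cfsg.Agent.KFacts.RgdChevCoord
open Cfsg.Agent.BpExc.TowChev (LocFin exists_level_finite charP_lev)
open Cfsg.Agent.H942.E8Tab (e8T)
open Cfsg.Agent.H288.E8L (wt act8 wt_inl wt_inr rt_vec vec_ne_zero wt_inj)
open Cfsg.Agent.H952.F4 (MaxAlt)
open Cfsg.Agent.H597.E8Form (J)
open Cfsg.Agent.E8A.Frm (B0 fm8 finW8)
open Cfsg.Agent.E8A.Inf (kf kf_apply kf_comm kf_act)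
open Cfsg.Agent.E8A.Kem (mk mk_apply mk_sr Dm SP PL St sp_le_PL TT_le_PL PL_le_St)

universe u

/-- the opposite root -/
def op (r : Fin chevE8.nroots) : Fin chevE8.nroots := ⟨chevE8.neg r, RootVec.neg_lt e8T.checked r.2⟩

theorem vec_op (r : Fin chevE8.nroots) : vec chevE8 8 (op r) = -vec chevE8 8 r := vec_neg e8T r.2

theorem op_ne (r : Fin chevE8.nroots) : chevE8.neg r ≠ r := RootVec.neg_ne e8T.checked r.2

theorem op_eq_rv (r : Fin chevE8.nroots) : op r = H597.E8Form.rv r :=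
  Fin.ext ((H597.E8Form.neg_eq r r.2).trans (H597.E8Form.rv_val r).symm)

theorem norm_wt (i : chevE8.Idx) : B0 (wt i) (wt i) ≤ 2 := by
  have := finW8
  rcases i with i | r
  · rw [wt_inl, map_zero]
    norm_num
  · exact le_of_eq (fm8.self (rt_vec r))

theorem two_step {r : Fin chevE8.nroots} {i k : chevE8.Idx} {m : ℕ} (hm : 2 ≤ m)
    (h : wt i = wt k + (m : ℤ) • vec chevE8 8 r) : i = Sum.inr r ∧ k = Sum.inr (op r) := by
  have := finW8
  have h1 := fm8.norm_sub_smul (wt i) (wt k) 1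
  have h2 := fm8.norm_add (wt i) (wt k)
  have h3 := norm_wt i
  have h4 := norm_wt k
  have h5 : B0 (wt i - (1 : ℤ) • wt k) (wt i - (1 : ℤ) • wt k) = m * (m * 2) := by
    rw [one_smul, h, add_sub_cancel_left, map_smul, map_smul, LinearMap.smul_apply, fm8.self (rt_vec r)]
    rfl
  have h6 := fm8.nonneg (wt i + wt k)
  have h7 : (2 : ℤ) ≤ m := by exact_mod_cast hm
  have h8 : (m : ℤ) = 2 := by nlinarith
  have h9 : wt i + wt k = 0 := fm8.eq_zero (by rw [h8] at h5; linarith)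
  rw [h8] at h
  have h10 : wt i = vec chevE8 8 r := by
    funext j
    have e1 := congrFun h j
    have e2 := congrFun h9 j
    simp only [Pi.add_apply, Pi.smul_apply, smul_eq_mul, Pi.zero_apply] at e1 e2
    omega
  have h11 : wt k = vec chevE8 8 (op r) := by rw [vec_op, ← h10, eq_neg_iff_add_eq_zero, add_comm, h9]
  exact ⟨wt_inj (h10.trans (wt_inr r).symm) (by rw [h10]; exact vec_ne_zero r),
    wt_inj (h11.trans (wt_inr _).symm) (by rw [h11]; exact vec_ne_zero _)⟩

section Root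

variable {K : Type u} [Field K]

theorem adm_ee (j i k : chevE8.Idx) : adm (ee K j) i k = ((adA chevE8 j i k : ℤ) : K) := by
  rw [adm_apply, Finset.sum_eq_single j]
  · rw [ee_self, one_mul]
  · intro l _ hl
    rw [ee_ne hl, zero_mul]
  · intro h
    exact absurd (Finset.mem_univ j) h

theorem mx_xr_entry (r : Fin chevE8.nroots) (t : K) (i k : chevE8.Idx) :
    mx (xr r t) i k = (if i = k then 1 else 0) + t * adm (ee K (Sum.inr r)) i k -
      if i = Sum.inr r ∧ k = Sum.inr (op r) then t ^ 2 else 0 := by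
  obtain ⟨c, m, h1, h2, h3, h4⟩ := xr_entry.{u} r i k
  obtain ⟨c', m', h1', h2', h3', h4'⟩ := xr_entry.{0} r i k
  have h5 : mx (xr r t) i k = (c : K) * t ^ m := h4 K t
  have h6 : adA chevE8 (Sum.inr r) i k = if m' = 1 then c' else 0 := by
    rw [adA_inr, coefE_apply, h4' ℤ[X] X, ← C_eq_intCast, coeff_C_mul, coeff_X_pow]
    by_cases e : m' = 1
    · rw [if_pos e, if_pos e.symm, mul_one]
      rfl
    · rw [if_neg e, if_neg fun e' => e e'.symm, mul_zero]
  have h7 : mx (xr r t) i k = (c' : K) * t ^ m' := by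
    have e1 : xR chevE8 K r t i k = (xR chevE8 ℤ[X] r X i k).eval₂ (Int.castRingHom K) t := xR_apply_eq_eval₂ _ _ _ _ _
    rw [h4' ℤ[X] X, eval₂_mul, eval₂_pow, eval₂_X, ← C_eq_intCast, eval₂_C] at e1
    exact e1
  clear h1 h2 h3 h4 h5
  rw [adm_ee, h6]
  by_cases e : i = Sum.inr r ∧ k = Sum.inr (op r)
  · obtain ⟨rfl, rfl⟩ := e
    have hne : r ≠ op r := fun e => op_ne r (congrArg Fin.val e).symm
    have hne' : ¬ r = ⟨chevE8.neg r, RootVec.neg_lt e8T.checked r.2⟩ := hne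
    have h8 : ∀ (L : Type) [Field L] (s : L), xR chevE8 L r s (Sum.inr r) (Sum.inr (op r)) = -(s ^ 2) := by
      intro L _ s
      have h9 := NBlock.x_neg_inr (D := chevE8) r.2 (RootVec.neg_lt e8T.checked r.2) (op_ne r) s r
      rw [if_neg hne', if_pos rfl] at h9
      exact h9
    have h9 : c' ≠ 0 := by
      rintro rfl
      have h10 := h4' ℚ 1
      rw [h8] at h10
      norm_num at h10
    have h10 : m' ≠ 1 := by
      rintro rfl
      have h11 := h1' h9
      rw [wt_inr, wt_inr, vec_op, Nat.cast_one, one_smul, neg_add_cancel] at h11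
      exact vec_ne_zero r h11
    have h11 := NBlock.x_neg_inr (D := chevE8) r.2 (RootVec.neg_lt e8T.checked r.2) (op_ne r) t r
    rw [if_neg hne', if_pos rfl] at h11
    rw [if_neg h10, if_neg fun e => hne (Sum.inr.inj e), if_pos ⟨rfl, rfl⟩, Int.cast_zero, mul_zero, add_zero, zero_sub]
    exact h11
  · rw [if_neg e, sub_zero, h7]
    by_cases h0 : m' = 0
    · rw [h2' h0, h0, pow_zero, mul_one, if_neg (zero_ne_one), Int.cast_zero, mul_zero, add_zero]
      split_ifs <;> simp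
    · rw [if_neg fun e => h0 (h3' e), zero_add]
      by_cases h1 : m' = 1
      · rw [if_pos h1, h1, pow_one, mul_comm]
      · have hc : c' = 0 := by
          by_contra hc
          exact e (two_step (by omega) (h1' hc))
        rw [if_neg h1, hc, Int.cast_zero, zero_mul, mul_zero]

theorem kf_ee (r : Fin chevE8.nroots) (v : L8 K) : kf K (ee K (Sum.inr r)) v = v (Sum.inr (op r)) := by
  rw [kf_apply, ee, single_dotProduct, one_mul, op_eq_rv, ← H597.E8Form.sum_J_rr r fun w => v (Sum.inr w)]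
  show ∑ j, J K (Sum.inr r) j * v j = _
  rw [Fintype.sum_sum_type, Finset.sum_eq_zero fun i _ => by rw [H597.E8Form.J_rl, zero_mul], zero_add]

/-- the action of a root element -/
theorem act_xr (r : Fin chevE8.nroots) (t : K) (v : L8 K) : act (xr r t) v =
    v + t • br (ee K (Sum.inr r)) v - (t ^ 2 * kf K (ee K (Sum.inr r)) v) • ee K (Sum.inr r) := by
  funext i
  rw [act_apply, kf_ee, Pi.sub_apply, Pi.add_apply, Pi.smul_apply, Pi.smul_apply, smul_eq_mul, smul_eq_mul]
  simp only [mx_xr_entry, sub_mul, add_mul]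
  rw [Finset.sum_sub_distrib, Finset.sum_add_distrib]
  congr 2
  · rw [Finset.sum_eq_single i]
    · rw [if_pos rfl, one_mul]
    · intro k _ hk
      rw [if_neg (Ne.symm hk), zero_mul]
    · intro h
      exact absurd (Finset.mem_univ i) h
  · show _ = t * ∑ k, adm (ee K (Sum.inr r)) i k * v k
    rw [Finset.mul_sum]
    exact Finset.sum_congr rfl fun k _ => mul_assoc _ _ _
  · rw [Finset.sum_eq_single (Sum.inr (op r)), ee_apply]
    · by_cases e : i = Sum.inr r
      · rw [if_pos ⟨e, rfl⟩, if_pos e, mul_one]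
      · rw [if_neg fun h => e h.1, if_neg e, mul_zero, zero_mul]
    · intro k _ hk
      rw [if_neg fun h => hk h.2, zero_mul]
    · intro h
      exact absurd (Finset.mem_univ _) h

theorem kf_eq_zero_of_br {r : Fin chevE8.nroots} {v : L8 K} (h : br (ee K (Sum.inr r)) v = 0) :
    kf K (ee K (Sum.inr r)) v = 0 := by
  rw [kf_ee]
  have h1 : ∀ i : Fin chevE8.rank, ((Columns.cor chevE8 r i : ℤ) : K) * v (Sum.inr (op r)) = 0 := by
    intro i
    have h2 : ∑ k, adm (ee K (Sum.inr r)) (Sum.inl i) k * v k = 0 := congrFun h (Sum.inl i)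
    rw [Finset.sum_eq_single (Sum.inr (op r))] at h2
    · have h3 := mx_xr_entry r (1 : K) (Sum.inl i) (Sum.inr (op r))
      rw [if_neg (by simp), if_neg (by simp), zero_add, sub_zero, one_mul] at h3
      have h4 := NBlock.x_neg_inl (D := chevE8) r.2 (RootVec.neg_lt e8T.checked r.2) (op_ne r) (1 : K) i
      rw [mul_one] at h4
      rw [← h3] at h2
      rw [← h2]
      exact congrArg (· * v (Sum.inr (op r))) h4.symm
    · intro k _ hk
      by_cases h0 : adm (ee K (Sum.inr r)) (Sum.inl i) k = 0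
      · rw [h0, zero_mul]
      · exfalso
        obtain ⟨l, hl, e⟩ := adm_wt h0
        have hl' : l = Sum.inr r := by
          by_contra hc
          exact hl (ee_ne hc)
        rw [hl', wt_inl, wt_inr] at e
        have e2 : wt k = vec chevE8 8 (op r) := by rw [vec_op, eq_neg_iff_add_eq_zero, add_comm, ← e]
        exact hk (wt_inj (e2.trans (wt_inr _).symm) (by rw [e2]; exact vec_ne_zero _))
    · intro hh
      exact absurd (Finset.mem_univ _) hh
  obtain ⟨j, hj⟩ := exists_cartan_ne (K := K) r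
  have h2 := H597.E8Form.cor_car (K := K) r j
  refine (mul_eq_zero.1 ?_).resolve_left hj
  show ((Columns.car chevE8 j r : ℤ) : K) * _ = 0
  rw [← h2, Finset.sum_mul]
  exact Finset.sum_eq_zero fun i _ => by rw [mul_right_comm, h1, zero_mul]

/-- long root elements -/
def ux (g : G8 K) (r : Fin chevE8.nroots) (t : K) : G8 K := g * xr r t * g⁻¹

theorem act_ux (g : G8 K) (r : Fin chevE8.nroots) (t : K) (v : L8 K) : act (ux g r t) v =
    v + t • br (act g (ee K (Sum.inr r))) v - (t ^ 2 * kf K (act g (ee K (Sum.inr r))) v) • act g (ee K (Sum.inr r)) := by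
  rw [ux, act_mul, act_mul, act_xr, act_sub, act_add, act_smul, act_smul, act_br, act_inv', ← kf_act g, act_inv']

theorem ext_act {a b : G8 K} (h : ∀ v, act a v = act b v) : a = b :=
  mx_injective (Matrix.ext fun i j => by rw [← act_ee, ← act_ee, h])

theorem conj_ux (y g : G8 K) (r : Fin chevE8.nroots) (t : K) : y * ux g r t * y⁻¹ = ux (y * g) r t := by
  unfold ux
  group

theorem ux_congr {g h : G8 K} {r s : Fin chevE8.nroots} (e : act g (ee K (Sum.inr r)) = act h (ee K (Sum.inr s)))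
    (t : K) : ux g r t = ux h s t := ext_act fun v => by rw [act_ux, act_ux, e]

theorem ux_fix {g : G8 K} {r : Fin chevE8.nroots} {v : L8 K} (h : br (act g (ee K (Sum.inr r))) v = 0) (t : K) :
    act (ux g r t) v = v := by
  have h1 : br (ee K (Sum.inr r)) (act g⁻¹ v) = 0 := by
    apply act_injective g
    rw [act_br, act_inv', h, act_zero]
  have h2 := kf_eq_zero_of_br h1
  rw [← kf_act g, act_inv'] at h2
  rw [act_ux, h, h2, smul_zero, mul_zero, zero_smul, add_zero, sub_zero]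

/-- commuting extremal vectors give commuting root elements -/
theorem ux_comm {g h : G8 K} {r s : Fin chevE8.nroots}
    (e : br (act g (ee K (Sum.inr r))) (act h (ee K (Sum.inr s))) = 0) (t t' : K) :
    ux g r t * ux h s t' = ux h s t' * ux g r t := by
  rw [← mul_inv_eq_iff_eq_mul, conj_ux]
  exact ux_congr (by rw [act_mul, ux_fix e]) t'

theorem ux_ne_one (g : G8 K) (r : Fin chevE8.nroots) {t : K} (ht : t ≠ 0) : ux g r t ≠ 1 := fun h => by
  rw [ux, mul_inv_eq_one, mul_eq_left] at h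
  exact ht ((xr_eq_one_iff r t).1 h)

theorem xr_pow (r : Fin chevE8.nroots) (t : K) (n : ℕ) : xr r t ^ n = xr r (n * t) := by
  induction n with
  | zero => rw [pow_zero, Nat.cast_zero, zero_mul, xr_zero]
  | succ n ih => rw [pow_succ, ih, xr_add, Nat.cast_succ, add_mul, one_mul]

theorem ux_pow (p : ℕ) [CharP K p] (g : G8 K) (r : Fin chevE8.nroots) (t : K) : ux g r t ^ p = 1 := by
  rw [ux, conj_pow, xr_pow, CharP.cast_eq_zero, zero_mul, xr_zero, mul_one, mul_inv_cancel]

/-- extremal vectors -/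
def Extr (x : L8 K) : Prop := ∃ (g : G8 K) (r : Fin chevE8.nroots) (c : K), c ≠ 0 ∧ x = c • act g (ee K (Sum.inr r))

theorem Extr.act {x : L8 K} (h : Extr x) (y : G8 K) : Extr (act y x) := by
  obtain ⟨g, r, c, hc, rfl⟩ := h
  exact ⟨y * g, r, c, hc, by rw [act_smul, act_mul]⟩

theorem em_PL {L : Type u} [Field L] (f : K →+* L) {lam : Q8 →+ ℝ} {y : G8 K} (hy : y ∈ PL K lam) :
    em f y ∈ PL L lam := by
  obtain ⟨m, hm, t, ht, rfl⟩ := hy
  exact ⟨_, em_Sup f (fun _ ha => ha.1) hm, _, em_TT f ht, map_mul _ _ _⟩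

/-- **Borel–Tits** over a finite field -/
theorem bt_fin [Finite K] (p : ℕ) [Fact p.Prime] [CharP K p] {P : Subgroup (G8 K)} (hP : IsPGroup p ↥P) (h0 : P ≠ ⊥) :
    ∃ (g : G8 K) (lam : Q8 →+ ℝ), lam ≠ 0 ∧ ∀ y ∈ Subgroup.normalizer (P : Set (G8 K)), g * y * g⁻¹ ∈ PL K lam := by
  classical
  have := finite8 (F := K)
  have := finW8
  obtain ⟨g, S, hS, -, h2⟩ := KFacts.RgdBorelTits.borel_tits (KFacts.RgdFiltChev.filt (K := K) e8T cs8 p)
    (KFacts.RgdFilt.GG_eq_top (G1_eq_top e8T cs8)) hP h0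
  obtain ⟨i, hi⟩ := (Set.ne_univ_iff_exists_notMem S).1 hS
  have hd : Dm (mk fun j => if j ∈ S then 0 else 1) := fun j => by
    rw [mk_sr]
    split_ifs <;> norm_num
  refine ⟨g⁻¹, mk fun j => if j ∈ S then 0 else 1, fun e => ?_, fun y hy => ?_⟩
  · have h3 := mk_sr (fun j => if j ∈ S then (0 : ℝ) else 1) i
    rw [e, if_neg hi] at h3
    exact zero_ne_one h3
  · have h3 := mem_cj.1 (h2 hy)
    rw [inv_inv]
    refine (sup_le (sup_le (TT_le_PL _) ?_) ?_ : _ ≤ PL K _) h3
    · refine le_trans (RGD.Sup_mono (S' := SP _) fun a ha => ⟨ha.1, le_of_eq ?_⟩) (sp_le_PL _)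
      rw [mk_apply]
      refine (Finset.sum_eq_zero fun j _ => ?_).symm
      by_cases e : j ∈ S
      · rw [if_pos e, mul_zero]
      · rw [ha.2 j e, Int.cast_zero, zero_mul]
    · exact le_trans (RGD.Sup_mono (S' := SP _) fun a ha => ⟨ha.1, hd.nonneg ha.2.1⟩) (sp_le_PL _)

/-- **Borel–Tits** over a locally finite field -/
theorem exists_par_of_pgroup (hk : LocFin K) (p : ℕ) [Fact p.Prime] [CharP K p] {P : Subgroup (G8 K)} [Finite ↥P]
    (hP : IsPGroup p ↥P) (h0 : P ≠ ⊥) {κ : Type} [Finite κ] {y : κ → G8 K}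
    (hy : ∀ a, y a ∈ Subgroup.normalizer (P : Set (G8 K))) :
    ∃ (g : G8 K) (lam : Q8 →+ ℝ), lam ≠ 0 ∧ ∀ a, g * y a * g⁻¹ ∈ St K lam := by
  obtain ⟨E, hE⟩ := exists_level_finite e8T hk ((Set.toFinite (P : Set (G8 K))).union (Set.finite_range y))
  have h1 := hE E le_rfl
  have := charP_lev p E.1
  let f : ↥E.1 →+* K := E.1.subtype
  obtain ⟨g, lam, h2, h3⟩ := bt_fin p (P := P.comap (em f)) (hP.comap_of_injective _ (em_injective f)) (by
    obtain ⟨⟨x, hx⟩, hx1⟩ := Subgroup.ne_bot_iff_exists_ne_one.1 h0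
    obtain ⟨x', hx'⟩ := h1 (Or.inl hx)
    have hx'' : em f x' = x := hx'
    intro hb
    have h4 : x' ∈ P.comap (em f) := by
      rw [Subgroup.mem_comap, hx'']
      exact hx
    rw [hb, Subgroup.mem_bot] at h4
    rw [h4, map_one] at hx''
    exact hx1 (Subtype.ext hx''.symm))
  refine ⟨em f g, lam, h2, fun a => ?_⟩
  obtain ⟨z, hz⟩ := h1 (Or.inr ⟨a, rfl⟩)
  have hz' : em f z = y a := hz
  have h4 := em_PL f (h3 z (by
    rw [Subgroup.mem_normalizer_iff]
    intro x
    rw [Subgroup.mem_comap, Subgroup.mem_comap, map_mul, map_mul, map_inv, hz']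
    exact Subgroup.mem_normalizer_iff.1 (hy a) _))
  rw [map_mul, map_mul, map_inv, hz'] at h4
  exact PL_le_St lam h4

end Root

variable {F : Type u} [Field F] [Finite F] {H : Subgroup (G8 F)} {n : ℕ} {φ : Alt n →* G8 F}

/-- **PARP**: the alternating group normalises no nontrivial finite `p`-subgroup of the algebraic group -/
theorem parp (p : ℕ) [Fact p.Prime] [CharP F p] (hM : MaxAlt H n φ) (h5 : 5 ≤ n) (hfx : NoFx φ)
    {P : Subgroup (G8 (Kb F))} [Finite ↥P] (hP : IsPGroup p ↥P) (h0 : P ≠ ⊥)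
    (hn : ∀ a, ∀ x ∈ P, emb0 (φ a) * x * (emb0 (φ a))⁻¹ ∈ P) : False := by
  obtain ⟨g, lam, h1, h2⟩ := exists_par_of_pgroup (locFinKb F) p hP h0 (y := fun a => emb0 (φ a)) fun a => by
    rw [Subgroup.mem_normalizer_iff]
    refine fun x => ⟨hn a x, fun hx => ?_⟩
    have h3 := hn a⁻¹ _ hx
    rwa [map_inv, map_inv, show (emb0 (φ a))⁻¹ * (emb0 (φ a) * x * (emb0 (φ a))⁻¹) * (emb0 (φ a))⁻¹⁻¹ = x by group] at h3
  exact par F H n φ hM h5 hfx g lam h1 h2

theorem orbit_group {A G : Type*} [Group A] [Group G] (ψ : A →* G) {p : ℕ} {x : G} (h1 : x ≠ 1) (hp : x ^ p = 1)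
    (hc : ∀ a, x * (ψ a * x * (ψ a)⁻¹) = ψ a * x * (ψ a)⁻¹ * x) :
    IsPGroup p ↥(Subgroup.closure (Set.range fun a => ψ a * x * (ψ a)⁻¹)) ∧
      Subgroup.closure (Set.range fun a => ψ a * x * (ψ a)⁻¹) ≠ ⊥ ∧
      ∀ a, ∀ z ∈ Subgroup.closure (Set.range fun a => ψ a * x * (ψ a)⁻¹),
        ψ a * z * (ψ a)⁻¹ ∈ Subgroup.closure (Set.range fun a => ψ a * x * (ψ a)⁻¹) := by
  obtain ⟨y, hy0⟩ : ∃ y : A → G, y = fun a => ψ a * x * (ψ a)⁻¹ := ⟨_, rfl⟩
  rw [← hy0]
  have hy1 : ∀ a, y a = ψ a * x * (ψ a)⁻¹ := fun a => by rw [hy0]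
  have hy : ∀ a b, ψ a * y b * (ψ a)⁻¹ = y (a * b) := fun a b => by
    rw [hy1, hy1, map_mul]
    group
  have hcm : ∀ a b, y a * y b = y b * y a := fun a b => by
    have h2 : y b = ψ a * y (a⁻¹ * b) * (ψ a)⁻¹ := by rw [hy, mul_inv_cancel_left]
    have h3 : x * y (a⁻¹ * b) = y (a⁻¹ * b) * x := by rw [hy1]; exact hc _
    rw [h2]
    calc y a * (ψ a * y (a⁻¹ * b) * (ψ a)⁻¹) = ψ a * (x * y (a⁻¹ * b)) * (ψ a)⁻¹ := by rw [hy1 a]; group
      _ = ψ a * y (a⁻¹ * b) * (ψ a)⁻¹ * y a := by rw [h3, hy1 a]; group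
  have hcm' : ∀ a ∈ Set.range y, ∀ b ∈ Set.range y, a * b = b * a := by
    rintro _ ⟨a, rfl⟩ _ ⟨b, rfl⟩
    exact hcm a b
  have hcl : ∀ a ∈ Subgroup.closure (Set.range y), ∀ b ∈ Subgroup.closure (Set.range y), a * b = b * a := by
    intro a ha b hb
    have := Subgroup.isMulCommutative_closure hcm'
    exact congrArg Subtype.val (mul_comm' (⟨a, ha⟩ : ↥(Subgroup.closure (Set.range y))) ⟨b, hb⟩)
  have hpow : ∀ a ∈ Subgroup.closure (Set.range y), a ^ p = 1 := by
    intro a ha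
    induction ha using Subgroup.closure_induction with
    | mem a ha =>
      obtain ⟨a, rfl⟩ := ha
      rw [hy1, conj_pow, hp, mul_one, mul_inv_cancel]
    | one => exact one_pow p
    | mul a b ha hb iha ihb => rw [Commute.mul_pow (hcl a ha b hb), iha, ihb, mul_one]
    | inv a _ ih => rw [inv_pow, ih, inv_one]
  refine ⟨fun a => ⟨1, Subtype.ext ?_⟩, fun hb => h1 ?_, fun a z hz => ?_⟩
  · rw [pow_one]
    exact hpow a a.2
  · have h2 : y 1 ∈ Subgroup.closure (Set.range y) := Subgroup.subset_closure ⟨1, rfl⟩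
    rwa [hb, Subgroup.mem_bot, hy1, map_one, one_mul, inv_one, mul_one] at h2
  · have h2 : Subgroup.closure (Set.range y) ≤
        (Subgroup.closure (Set.range y)).comap (MulAut.conj (ψ a)).toMonoidHom := by
      refine (Subgroup.closure_le _).2 ?_
      rintro _ ⟨b, rfl⟩
      exact Subgroup.subset_closure ⟨a * b, (hy a b).symm⟩
    exact h2 hz

theorem finite_closure {K : Type u} [Field K] (hk : LocFin K) {S : Set (G8 K)} (hS : S.Finite) :
    Finite ↥(Subgroup.closure S) := by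
  obtain ⟨E, hE⟩ := exists_level_finite e8T hk hS
  have h2 : Subgroup.closure S ≤ (em E.1.subtype).range := (Subgroup.closure_le _).2 (hE E le_rfl)
  have := finite8 (F := ↥E.1)
  have : Finite ↥(em E.1.subtype).range := Finite.of_surjective _ (MonoidHom.rangeRestrict_surjective _)
  exact Finite.of_injective _ (Subgroup.inclusion_injective h2)

/-- no orbit of pairwise commuting elements of order `p` -/
theorem paru (p : ℕ) [Fact p.Prime] [CharP F p] (hM : MaxAlt H n φ) (h5 : 5 ≤ n) (hfx : NoFx φ) {x : G8 (Kb F)}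
    (h1 : x ≠ 1) (hp : x ^ p = 1)
    (hc : ∀ a, x * (emb0 (φ a) * x * (emb0 (φ a))⁻¹) = emb0 (φ a) * x * (emb0 (φ a))⁻¹ * x) : False := by
  obtain ⟨h2, h3, h4⟩ := orbit_group (emb0.comp φ) h1 hp hc
  have := finite_closure (locFinKb F)
    (Set.finite_range fun a => (emb0.comp φ) a * x * ((emb0.comp φ) a)⁻¹)
  exact parp p hM h5 hfx h2 h3 h4

/-- no extremal vector commutes with all its conjugates -/
theorem parx1 (hM : MaxAlt H n φ) (h5 : 5 ≤ n) (hfx : NoFx φ) {x : L8 (Kb F)} (hx : Extr x)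
    (hc : ∀ a, br x (act (emb0 (φ a)) x) = 0) : False := by
  obtain ⟨p, hp, hch⟩ := exists_char F
  have := Fact.mk hp
  obtain ⟨g, r, c, hc0, rfl⟩ := hx
  refine paru p hM h5 hfx (ux_ne_one g r one_ne_zero) (ux_pow p g r 1) fun a => ?_
  rw [conj_ux]
  refine ux_comm ?_ 1 1
  have h1 := hc a
  rw [act_smul, br_smul_left, br_smul_right, smul_smul, ← act_mul] at h1
  exact (smul_eq_zero.1 h1).resolve_left (mul_ne_zero hc0 hc0)

/-- **PARX** -/
theorem parx (hM : MaxAlt H n φ) (h5 : 5 ≤ n) (hfx : NoFx φ) {X : Set (L8 (Kb F))} (hne : X.Nonempty)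
    (hX : ∀ x ∈ X, Extr x) (hst : ∀ a, ∀ x ∈ X, act (emb0 (φ a)) x ∈ X) (hc : ∀ x ∈ X, ∀ y ∈ X, br x y = 0) :
    False := by
  obtain ⟨x, hx⟩ := hne
  exact parx1 hM h5 hfx (hX x hx) fun a => hc x hx _ (hst a x hx)

end Cfsg.Agent.E8A.Par
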