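import Mathlib

/-!
# Maximal minors of a family of matrices (helper8)

* `mnr y rho` : the minor of the stacked matrices `y a - 1` with the rows `rho`;
* `mnr_conj`, `mnr_map`, `exists_mnr`, `mnr_perm`.
-/

set_option autoImplicit false

namespace Cfsg.Agent.E8A.Par

open Matrix

variable {ι κ : Type*} [Fintype ι] [DecidableEq ι] {K : Type*} [Field K]

theorem det_rows (c : ι → ι → K) (R : ι → ι → ι → K) (h : (Matrix.of fun i => ∑ l, c i l • R i l).det ≠ 0) :
    ∃ f : ι → ι, (∀ i, c i (f i) ≠ 0) ∧ (Matrix.of fun i => R i (f i)).det ≠ 0 := by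
  have e : (Matrix.of fun i => ∑ l, c i l • R i l).det =
      ∑ f : ι → ι, (∏ i, c i (f i)) • (Matrix.of fun i => R i (f i)).det := by
    have h1 := (Matrix.detRowAlternating (n := ι) (R := K)).toMultilinearMap.map_sum fun i l => c i l • R i l
    refine h1.trans (Finset.sum_congr rfl fun f _ => ?_)
    exact (Matrix.detRowAlternating (n := ι) (R := K)).toMultilinearMap.map_smul_univ (fun i => c i (f i))
      fun i => R i (f i)
  rw [e] at h
  obtain ⟨f, -, hf⟩ := Finset.exists_ne_zero_of_sum_ne_zero h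
  rw [smul_eq_mul] at hf
  exact ⟨f, fun i => Finset.prod_ne_zero_iff.1 (left_ne_zero_of_mul hf) i (Finset.mem_univ i), right_ne_zero_of_mul hf⟩

theorem exists_perm {M : Matrix ι ι K} (h : M.det ≠ 0) : ∃ π : Equiv.Perm ι, ∀ j, M (π j) j ≠ 0 := by
  rw [Matrix.det_apply] at h
  obtain ⟨π, -, hπ⟩ := Finset.exists_ne_zero_of_sum_ne_zero h
  refine ⟨π, fun j hj => hπ ?_⟩
  rw [Finset.prod_eq_zero (f := fun i => M (π i) i) (Finset.mem_univ j) hj, smul_zero]

theorem exists_rows (R : κ → ι → K) (h : ∀ v : ι → K, (∀ k, R k ⬝ᵥ v = 0) → v = 0) :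
    ∃ rho : ι → κ, (Matrix.of fun i => R (rho i)).det ≠ 0 := by
  have h1 : Submodule.span K (Set.range R) = ⊤ := by
    by_contra hc
    obtain ⟨f, hf0, hf⟩ := Submodule.exists_le_ker_of_lt_top _ (lt_top_iff_ne_top.2 hc)
    have h2 : ∀ x : ι → K, f x = x ⬝ᵥ fun i => f (Pi.single i 1) := by
      intro x
      rw [LinearMap.pi_apply_eq_sum_univ f x]
      refine Finset.sum_congr rfl fun i _ => ?_
      rw [smul_eq_mul]
      congr 2
      funext j
      rw [Pi.single_apply]
      simp only [eq_comm]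
    have h3 := h (fun i => f (Pi.single i 1)) fun k => by
      rw [← h2]
      exact hf (Submodule.subset_span ⟨k, rfl⟩)
    refine hf0 (LinearMap.ext fun x => ?_)
    rw [h2, h3, dotProduct_zero, LinearMap.zero_apply]
  obtain ⟨t, ht, hsp, hli⟩ := exists_linearIndependent K (Set.range R)
  let b : Module.Basis t K (ι → K) := Module.Basis.mk hli (by rw [Subtype.range_coe, hsp, h1])
  let e : ι ≃ t := (Pi.basisFun K ι).indexEquiv b
  choose rho hrho using fun i => ht (e i).2
  refine ⟨rho, ?_⟩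
  have h2 : LinearIndependent K (Matrix.of fun i => R (rho i)).row := by
    have e2 : (Matrix.of fun i => R (rho i)).row = ((↑) : t → ι → K) ∘ e := funext fun i => hrho i
    rw [e2]
    exact hli.comp e e.injective
  exact ((Matrix.isUnit_iff_isUnit_det _).1 (Matrix.linearIndependent_rows_iff_isUnit.1 h2)).ne_zero

/-- the minor of the stacked matrices `y a - 1` with the rows `rho` -/
def mnr (y : κ → Matrix ι ι K) (rho : ι → κ × ι) : K := (Matrix.of fun i => (y (rho i).1 - 1) (rho i).2).det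

theorem mnr_conj {y : κ → Matrix ι ι K} {x x' : Matrix ι ι K} (hx : x * x' = 1) {rho : ι → κ × ι}
    (h : mnr (fun a => x * y a * x') rho ≠ 0) :
    ∃ f : ι → ι, (∀ i, x (rho i).2 (f i) ≠ 0) ∧ mnr y (fun i => ((rho i).1, f i)) ≠ 0 := by
  have e : (Matrix.of fun i => (x * y (rho i).1 * x' - 1) (rho i).2) =
      (Matrix.of fun i => ∑ l, x (rho i).2 l • (y (rho i).1 - 1) l) * x' := by
    ext i j
    have e1 : x * y (rho i).1 * x' - 1 = x * (y (rho i).1 - 1) * x' := by
      rw [Matrix.mul_sub, Matrix.sub_mul, Matrix.mul_one, hx]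
    rw [Matrix.of_apply, e1, Matrix.mul_apply, Matrix.mul_apply]
    refine Finset.sum_congr rfl fun k _ => ?_
    rw [Matrix.of_apply, Matrix.mul_apply, Finset.sum_apply]
    rfl
  have h1 : (Matrix.of fun i => (x * y (rho i).1 * x' - 1) (rho i).2).det ≠ 0 := h
  rw [e, Matrix.det_mul] at h1
  exact det_rows (fun i l => x (rho i).2 l) (fun i l => (y (rho i).1 - 1) l) (left_ne_zero_of_mul h1)

theorem mnr_map {L : Type*} [Field L] (f : K →+* L) (y : κ → Matrix ι ι K) (rho : ι → κ × ι) :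
    mnr (fun a => (y a).map f) rho = f (mnr y rho) := by
  unfold mnr
  rw [RingHom.map_det]
  congr 1
  ext i j
  show f (y (rho i).1 (rho i).2 j) - (1 : Matrix ι ι L) (rho i).2 j =
    f (y (rho i).1 (rho i).2 j - (1 : Matrix ι ι K) (rho i).2 j)
  rw [map_sub, Matrix.one_apply, Matrix.one_apply]
  split_ifs
  · rw [map_one]
  · rw [map_zero]

theorem exists_mnr {y : κ → Matrix ι ι K} (h : ∀ v : ι → K, (∀ a, y a *ᵥ v = v) → v = 0) : ∃ rho, mnr y rho ≠ 0 := by
  refine exists_rows (fun k : κ × ι => (y k.1 - 1) k.2) fun v hv => h v fun a => ?_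
  funext i
  have h1 : ((y a - 1) *ᵥ v) i = 0 := hv (a, i)
  rwa [Matrix.sub_mulVec, Matrix.one_mulVec, Pi.sub_apply, sub_eq_zero] at h1

theorem mnr_perm {y : κ → Matrix ι ι K} {rho : ι → κ × ι} (h : mnr y rho ≠ 0) {v : ι → K} {j₀ : ι} (hv : v j₀ ≠ 0) :
    ∃ π : Equiv.Perm ι, (∀ j, j ≠ j₀ → (y (rho (π j)).1 - 1) (rho (π j)).2 j ≠ 0) ∧
      ((y (rho (π j₀)).1 - 1) *ᵥ v) (rho (π j₀)).2 ≠ 0 := by
  have h1 := Matrix.det_updateCol_sum (Matrix.of fun i => (y (rho i).1 - 1) (rho i).2) j₀ v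
  have h2 : ((Matrix.of fun i => (y (rho i).1 - 1) (rho i).2).updateCol j₀
      fun k => ∑ i, v i • (Matrix.of fun i => (y (rho i).1 - 1) (rho i).2) k i).det ≠ 0 := by
    rw [h1]
    exact mul_ne_zero hv h
  obtain ⟨π, hπ⟩ := exists_perm h2
  refine ⟨π, fun j hj => ?_, ?_⟩
  · have h3 := hπ j
    rwa [Matrix.updateCol_ne hj] at h3
  · have h3 := hπ j₀
    rw [Matrix.updateCol_self] at h3
    refine fun h4 => h3 (Eq.trans ?_ h4)
    exact Finset.sum_congr rfl fun i _ => mul_comm _ _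

end Cfsg.Agent.E8A.Par
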