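import Cfsg.Agent.E8A.Par.Opt
import Cfsg.Agent.E8A.Par.Min
import Cfsg.Agent.H955.L64.Irr

/-!
# The boxes PAR, PARW, STAB (helper8)

* `DF y lam` : the family `y` lies in the parabolic subgroup of `lam` and its nonzero maximal minors have weight `≥ 1`;
* `par_gen` : a finite family of rational elements without fixed vectors inside a proper parabolic subgroup of the
  algebraic group gives a nontrivial rational `p`-group normalised by the normaliser of the family;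
* `par : PAR`, `parw : PARW`, `stab_box : STAB`.
-/

set_option autoImplicit false
set_option maxRecDepth 100000

namespace Cfsg.Agent.E8A.Par

open CoxeterSystem Cfsg Cfsg.Lie Matrix
open Cfsg.Agent.ChevalleyStructure Cfsg.Agent.ChevalleyStructure.Elts Cfsg.Agent.ChevalleyStructure.CoxeterGeom
  Cfsg.Agent.ChevalleyStructure.CoxeterGeomTypes
open Cfsg.Agent.Tits.Roots Cfsg.Agent.Nodes.Reps Cfsg.Agent.Nodes.BNOf Cfsg.Agent.Nodes.RGDChev
  Cfsg.Agent.Nodes.NormalForm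
open Cfsg.Agent.KFacts.RgdChevCoord
open Cfsg.Agent.H942.E8Tab (e8T)
open Cfsg.Agent.H288.E8L (wt act8)
open Cfsg.Agent.H952.F4 (MaxAlt)
open Cfsg.Agent.E8A.Kem (cw cw_apply mk mk_apply mk_sr mk_eq continuous_mk Dm exists_dm Ge mem_Ge SP PL St sp_le_PL
  PL_le_St)

universe u

section Fam

variable {K : Type u} [Field K] {κ : Type}

/-- the weight of a choice of rows -/
noncomputable def wsum (lam : Q8 →+ ℝ) (rho : chevE8.Idx → κ × chevE8.Idx) : ℝ := ∑ i, lam (wt (rho i).2)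

/-- destabilized families -/
def DF (y : κ → G8 K) (lam : Q8 →+ ℝ) : Prop :=
  (∀ a, Up lam lam (mx (y a))) ∧ ∀ rho, mnr (fun a => mx (y a)) rho ≠ 0 → 1 ≤ wsum lam rho

theorem DF.conj {y : κ → G8 K} {l l' : Q8 →+ ℝ} (h : DF y l) {x : G8 K} (hx : Up l l' (mx x)) (hx' : Up l' l (mx x⁻¹)) :
    DF (fun a => x * y a * x⁻¹) l' := by
  refine ⟨fun a => (hx.mul (h.1 a)).mul hx', fun rho hr => ?_⟩
  obtain ⟨f, hf, h1⟩ := mnr_conj (y := fun a => mx (y a)) (mx_mul_inv x) hr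
  exact (h.2 _ h1).trans (Finset.sum_le_sum fun i _ => hx _ _ (hf i))

theorem DF.comp {y : κ → G8 K} {l : Q8 →+ ℝ} (h : DF y l) (π : κ → κ) : DF (fun a => y (π a)) l :=
  ⟨fun a => h.1 (π a), fun rho hr => h.2 (fun i => (π (rho i).1, (rho i).2)) hr⟩

theorem DF.em {L : Type u} [Field L] (f : K →+* L) {y : κ → G8 K} {l : Q8 →+ ℝ} (h : DF y l) :
    DF (fun a => em f (y a)) l := by
  refine ⟨fun a i j hij => h.1 a i j fun h0 => hij ?_, fun rho hr => h.2 rho fun h0 => hr ?_⟩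
  · show f (mx (y a) i j) = 0
    rw [h0, map_zero]
  · have h1 := mnr_map f (fun a => mx (y a)) rho
    rw [h0, map_zero] at h1
    exact h1

theorem DF.mid {y : κ → G8 K} {l₁ l₂ : Q8 →+ ℝ} (h₁ : DF y l₁) (h₂ : DF y l₂) : DF y ((1 / 2 : ℝ) • (l₁ + l₂)) := by
  refine ⟨fun a i j hij => ?_, fun rho hr => ?_⟩
  · have e₁ := h₁.1 a i j hij
    have e₂ := h₂.1 a i j hij
    simp only [AddMonoidHom.smul_apply, AddMonoidHom.add_apply, smul_eq_mul]
    linarith
  · have e₁ := h₁.2 rho hr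
    have e₂ := h₂.2 rho hr
    have e : wsum ((1 / 2 : ℝ) • (l₁ + l₂)) rho = 1 / 2 * (wsum l₁ rho + wsum l₂ rho) := by
      unfold wsum
      rw [← Finset.sum_add_distrib, Finset.mul_sum]
      exact Finset.sum_congr rfl fun i _ => rfl
    rw [e]
    linarith

/-- the class of the destabilizing pairs of a family -/
def DD (y : κ → G8 K) (g : G8 K) (lam : Q8 →+ ℝ) : Prop := DF (fun a => g * y a * g⁻¹) lam

theorem DD.mul {y : κ → G8 K} {g : G8 K} {l l' : Q8 →+ ℝ} (h : DD y g l) {x : G8 K} (hx : Up l l' (mx x))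
    (hx' : Up l' l (mx x⁻¹)) : DD y (x * g) l' := by
  have h1 := DF.conj h hx hx'
  have e : (fun a => x * (g * y a * g⁻¹) * x⁻¹) = fun a => x * g * y a * (x * g)⁻¹ := funext fun a => by group
  rwa [e] at h1

theorem isClosed_DD [Finite κ] (y : κ → G8 K) : IsClosed {x : Fin 8 → ℝ | ∃ g, DD y g (mk x)} := by
  have e : {x : Fin 8 → ℝ | ∃ g, DD y g (mk x)} =
      ⋃ S ∈ {S : Set (chevE8.Idx × chevE8.Idx) × Set (chevE8.Idx → κ × chevE8.Idx) | ∃ g : G8 K,
          (∀ a i j, mx (g * y a * g⁻¹) i j ≠ 0 → (i, j) ∈ S.1) ∧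
          ∀ rho, mnr (fun a => mx (g * y a * g⁻¹)) rho ≠ 0 → rho ∈ S.2},
        (⋂ e ∈ S.1, {x : Fin 8 → ℝ | mk x (wt e.2) ≤ mk x (wt e.1)}) ∩
          ⋂ rho ∈ S.2, {x : Fin 8 → ℝ | 1 ≤ wsum (mk x) rho} := by
    ext x
    simp only [Set.mem_ofPred_eq, Set.mem_iUnion, Set.mem_iInter, Set.mem_inter_iff]
    constructor
    · rintro ⟨g, hg⟩
      exact ⟨({e | mk x (wt e.2) ≤ mk x (wt e.1)}, {rho | 1 ≤ wsum (mk x) rho}), ⟨g, hg.1, hg.2⟩,
        fun _ hi => hi, fun _ hi => hi⟩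
    · rintro ⟨S, ⟨g, hg, hg'⟩, hx, hx'⟩
      exact ⟨g, fun a i j hij => hx _ (hg a i j hij), fun rho hr => hx' _ (hg' rho hr)⟩
  rw [e]
  refine (Set.toFinite _).isClosed_biUnion fun S _ => IsClosed.inter ?_ ?_
  · exact isClosed_biInter fun i _ => isClosed_le (continuous_mk _) (continuous_mk _)
  · exact isClosed_biInter fun rho _ => isClosed_le continuous_const (continuous_finsetSum _ fun i _ => continuous_mk _)

theorem ks_DD [Finite κ] (y : κ → G8 K) : KS (DD y) where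
  closed := isClosed_DD y
  mid _ _ _ h₁ h₂ := DF.mid h₁ h₂
  sp _ lam _ h hm := h.mul (up_of_St (PL_le_St lam (sp_le_PL lam hm))) (up_of_St (PL_le_St lam (sp_le_PL lam (inv_mem hm))))
  rep _ _ _ _ h hn := h.mul (up_rep_inv hn) (by rw [inv_inv]; exact up_rep hn)

theorem sum_wt (lam : Q8 →+ ℝ) : ∑ j : chevE8.Idx, lam (wt j) = 0 := by
  rw [Fintype.sum_sum_type]
  have h1 : ∑ i : Fin chevE8.rank, lam (wt (Sum.inl i)) = 0 :=
    Finset.sum_eq_zero fun i _ => by rw [H288.E8L.wt_inl, map_zero]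
  rw [h1, zero_add]
  let σ : Fin chevE8.nroots → Fin chevE8.nroots := fun r => ⟨chevE8.neg r, RootVec.neg_lt e8T.checked r.2⟩
  have hσ : Function.Involutive σ := fun r => Fin.ext (RootVec.neg_neg e8T.checked r.2)
  have h2 := Equiv.sum_comp (hσ.toPerm σ) fun r => lam (wt (Sum.inr r))
  have h3 : ∑ r, lam (wt (Sum.inr (hσ.toPerm σ r))) = -∑ r : Fin chevE8.nroots, lam (wt (Sum.inr r)) := by
    rw [← Finset.sum_neg_distrib]
    refine Finset.sum_congr rfl fun r _ => ?_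
    rw [H288.E8L.wt_inr, H288.E8L.wt_inr, ← map_neg, ← vec_neg e8T r.2]
    rfl
  linarith

/-- a toral vector which the parabolic subgroup fixes modulo the nilradical -/
theorem exists_h0 {lam : Q8 →+ ℝ} (hd : Dm lam) (h0 : lam ≠ 0) : ∃ h : L8 K, InT h ∧ h ≠ 0 ∧
    ∀ y ∈ St K lam, act y h - h ∈ LS K {a | 0 < lam a} := by
  obtain ⟨i, hi⟩ := exists_pos hd h0
  obtain ⟨h, hh, hr⟩ := exists_rl (K := K) ((Int.castAddHom K).comp (Pi.evalAddMonoidHom (fun _ : Fin 8 => ℤ) i))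
  have hr' : ∀ a : Q8, rl h a = ((a i : ℤ) : K) := fun a => by rw [hr]; rfl
  have hst : ∀ y ∈ St K lam, ∀ v ∈ LS K {a | 0 < lam a}, act y v ∈ LS K {a | 0 < lam a} := fun y hy v hv =>
    mulVec_LS (A := {a | 0 < lam a}) (A' := {a | 0 < lam a}) (fun i j hij hj =>
      show 0 < lam (wt i) from lt_of_lt_of_le (show 0 < lam (wt j) from hj) (up_of_St hy i j hij)) hv
  refine ⟨h, hh, fun e => ?_, fun y hy => ?_⟩
  · have h1 := hr' (sr i)
    rw [e, sr_self, Int.cast_one, rl_apply, Finset.sum_eq_zero fun j _ => mul_zero _] at h1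
    exact zero_ne_one h1
  · let P : Subgroup (G8 K) :=
      { carrier := {g | g ∈ St K lam ∧ act g h - h ∈ LS K {a | 0 < lam a}}
        one_mem' := ⟨one_mem _, by rw [act_one, sub_self]; exact zero_mem _⟩
        mul_mem' := fun {a b} ha hb => ⟨mul_mem ha.1 hb.1, by
          have e : act (a * b) h - h = act a (act b h - h) + (act a h - h) := by
            rw [act_mul, act_sub]; abel
          rw [e]
          exact add_mem (hst a ha.1 _ hb.2) ha.2⟩
        inv_mem' := fun {a} ha => ⟨inv_mem ha.1, by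
          have e : act a⁻¹ h - h = -act a⁻¹ (act a h - h) := by
            rw [act_sub, act_inv]; abel
          rw [e]
          exact neg_mem (hst _ (inv_mem ha.1) _ ha.2)⟩ }
    have h1 : RGD.Sup (XX chevE8 8 K) (SP lam) ≤ P := by
      refine sup_le_of (fun _ ha => ha.1) fun r hr t => ⟨PL_le_St lam (sp_le_PL lam (xr_mem_Sup hr t)), ?_⟩
      rw [act_xr_T r t hh, sub_sub_cancel_left]
      refine neg_mem ?_
      by_cases h2 : vec chevE8 8 r i = 0
      · rw [← rl_vec, hr', h2, Int.cast_zero, zero_mul, zero_smul]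
        exact zero_mem _
      · refine Submodule.smul_mem _ _ (ee_mem_LS ?_)
        show 0 < lam (vec chevE8 8 r)
        by_cases h3 : 0 ≤ vec chevE8 8 r
        · have h4 : (0 : Q8) ≤ vec chevE8 8 r - sr i := fun j => by
            have h5 : (0 : ℤ) ≤ vec chevE8 8 r j := h3 j
            show (0 : ℤ) ≤ vec chevE8 8 r j - sr i j
            by_cases e : j = i
            · subst e
              rw [sr_self]
              omega
            · rw [sr_ne e]
              omega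
          have h5 := hd.nonneg h4
          rw [map_sub] at h5
          linarith
        · exfalso
          have h3' : vec chevE8 8 r ≤ 0 := (H288.E8L.rt_vec r).not_nonneg_iff.1 h3
          have h4 : vec chevE8 8 r + sr i ≤ 0 := fun j => by
            have h5 : vec chevE8 8 r j ≤ (0 : ℤ) := h3' j
            show vec chevE8 8 r j + sr i j ≤ (0 : ℤ)
            by_cases e : j = i
            · subst e
              rw [sr_self]
              omega
            · rw [sr_ne e]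
              omega
          have h5 := hd.nonpos h4
          rw [map_add] at h5
          have h6 : 0 ≤ lam (vec chevE8 8 r) := hr.2
          linarith
    obtain ⟨m, hm, t, ht, rfl⟩ := St_le_PL hd hy
    rw [act_mul, act_TT_T ht hh]
    exact (h1 hm).2

theorem wsum_pos {y : κ → G8 K} {lam : Q8 →+ ℝ} (hd : Dm lam) (h0 : lam ≠ 0) (hy : ∀ a, y a ∈ St K lam)
    {rho : chevE8.Idx → κ × chevE8.Idx} (hr : mnr (fun a => mx (y a)) rho ≠ 0) : 0 < wsum lam rho := by
  obtain ⟨h, hh, hne, hst⟩ := exists_h0 (K := K) hd h0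
  obtain ⟨j₀, hj₀⟩ := Function.ne_iff.1 hne
  obtain ⟨π, h1, h2⟩ := mnr_perm hr hj₀
  have h3 : lam (wt j₀) < lam (wt (rho (π j₀)).2) := by
    have h4 : wt j₀ = 0 := inT_iff.1 hh j₀ hj₀
    rw [h4, map_zero]
    refine hst _ (hy (rho (π j₀)).1) _ ?_
    rw [act_sub_self]
    exact h2
  have h4 : ∀ j, lam (wt j) ≤ lam (wt (rho (π j)).2) := by
    intro j
    by_cases e : j = j₀
    · rw [e]
      exact h3.le
    · by_cases e' : (rho (π j)).2 = j
      · rw [e']
      · refine up_of_St (hy (rho (π j)).1) _ _ fun h5 => h1 j e ?_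
        show mx (y (rho (π j)).1) (rho (π j)).2 j - (1 : Matrix chevE8.Idx chevE8.Idx K) (rho (π j)).2 j = 0
        rw [h5, Matrix.one_apply_ne e', sub_zero]
  have h5 := Finset.sum_lt_sum (s := Finset.univ) (fun j _ => h4 j) ⟨j₀, Finset.mem_univ _, h3⟩
  rw [sum_wt, Equiv.sum_comp π fun i => lam (wt (rho i).2)] at h5
  exact h5

theorem exists_DF [Finite κ] {y : κ → G8 K} {lam : Q8 →+ ℝ} (hd : Dm lam) (h0 : lam ≠ 0) (hy : ∀ a, y a ∈ St K lam) :
    ∃ l, DF y l := by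
  obtain ⟨c, hc, h⟩ : ∃ c : ℝ, 0 < c ∧ ∀ rho, mnr (fun a => mx (y a)) rho ≠ 0 → 1 ≤ c * wsum lam rho := by
    obtain ⟨M, hM⟩ := (Set.finite_range fun rho : chevE8.Idx → κ × chevE8.Idx => (wsum lam rho)⁻¹).bddAbove
    refine ⟨max M 1, lt_max_of_lt_right one_pos, fun rho hr => ?_⟩
    have h1 := wsum_pos hd h0 hy hr
    have h2 : (wsum lam rho)⁻¹ ≤ max M 1 := (hM ⟨rho, rfl⟩).trans (le_max_left _ _)
    calc (1 : ℝ) = (wsum lam rho)⁻¹ * wsum lam rho := (inv_mul_cancel₀ h1.ne').symm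
      _ ≤ _ := mul_le_mul_of_nonneg_right h2 h1.le
  refine ⟨c • lam, fun a i j hij => ?_, fun rho hr => ?_⟩
  · exact mul_le_mul_of_nonneg_left (up_of_St (hy a) i j hij) hc.le
  · refine (h rho hr).trans (le_of_eq ?_)
    unfold wsum
    rw [Finset.mul_sum]
    rfl

theorem exists_DD [Finite κ] {y : κ → G8 K} {g : G8 K} {lam : Q8 →+ ℝ} (h0 : lam ≠ 0)
    (hy : ∀ a, g * y a * g⁻¹ ∈ St K lam) : ∃ g l, DD y g l := by
  obtain ⟨w, hw⟩ := exists_dm lam
  obtain ⟨n, hn⟩ := exists_rp cs8 (nsysK K) w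
  have h1 : cw lam w ≠ 0 := fun e => h0 (AddMonoidHom.ext fun a => by
    rw [← act8_act_inv w a, ← cw_apply, e]
    rfl)
  obtain ⟨l, hl⟩ := exists_DF (y := fun a => n⁻¹ * g * y a * (n⁻¹ * g)⁻¹) hw h1 fun a => by
    rw [show n⁻¹ * g * y a * (n⁻¹ * g)⁻¹ = n⁻¹ * (g * y a * g⁻¹) * n by group]
    exact St_conj hn (hy a)
  exact ⟨_, l, hl⟩

theorem not_DD_zero {y : κ → G8 K} {rho : chevE8.Idx → κ × chevE8.Idx} (hr : mnr (fun a => mx (y a)) rho ≠ 0)
    (g : G8 K) : ¬ DD y g 0 := by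
  intro h
  have e : (fun a => mx (y a)) = fun a => mx g⁻¹ * mx (g * y a * g⁻¹) * mx g := funext fun a => by
    rw [← mx_mul, ← mx_mul]
    congr 1
    group
  rw [e] at hr
  obtain ⟨f, -, h1⟩ := mnr_conj (y := fun a => mx (g * y a * g⁻¹)) (mx_inv_mul g) hr
  have h2 := h.2 _ h1
  have h3 : wsum (0 : Q8 →+ ℝ) (fun i => ((rho i).1, f i)) = 0 := Finset.sum_eq_zero fun i _ => rfl
  rw [h3] at h2
  exact absurd h2 (by norm_num)

end Fam

/-- **a family without fixed vectors inside a proper parabolic subgroup** -/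
theorem par_gen {F : Type u} [Field F] [Finite F] (p : ℕ) [Fact p.Prime] [CharP F p] {κ : Type} [Finite κ]
    {y : κ → G8 F} (hfx : ∀ v : L8 F, (∀ a, act (y a) v = v) → v = 0) {g : G8 (Kb F)} {lam : Q8 →+ ℝ} (h0 : lam ≠ 0)
    (hy : ∀ a, g * emb0 (y a) * g⁻¹ ∈ St (Kb F) lam) : ∃ R : Subgroup (G8 F), R ≠ ⊥ ∧ IsPGroup p ↥R ∧
      ∀ h : G8 F, (∀ a, ∃ b, h * y a * h⁻¹ = y b) → ∀ x ∈ R, h * x * h⁻¹ ∈ R := by
  obtain ⟨g₀, l₀, h₀⟩ := exists_DD (y := fun a => emb0 (y a)) h0 hy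
  obtain ⟨rho, hr⟩ := exists_mnr (y := fun a => mx (y a)) hfx
  have hr' : mnr (fun a => mx (emb0 (y a))) rho ≠ 0 := by
    have h1 := mnr_map (algebraMap F (Kb F)) (fun a => mx (y a)) rho
    exact fun h2 => hr ((map_eq_zero _).1 (h1.symm.trans h2))
  obtain ⟨R, hR, hp, hn⟩ := (ks_DD fun a => emb0 (y a)).endgame p h₀ (not_DD_zero hr') fun g lam h => by
    have h1 := DF.em (fq F) h
    have e : (fun a => E8A.em (fq F) (g * emb0 (y a) * g⁻¹)) = fun a => sg g * emb0 (y a) * (sg g)⁻¹ :=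
      funext fun a => by
        show sg (g * emb0 (y a) * g⁻¹) = _
        rw [map_mul, map_mul, map_inv, sg_emb0]
    rwa [e] at h1
  refine ⟨R, hR, hp, fun h hh => hn h fun g lam hD => ?_⟩
  choose π hπ using hh
  have h1 := DF.comp hD π
  have e : (fun a => g * emb0 (y (π a)) * g⁻¹) = fun a => g * emb0 h * emb0 (y a) * (g * emb0 h)⁻¹ :=
    funext fun a => by
      rw [← hπ, map_mul, map_mul, map_inv]
      group
  exact (congrArg (fun z => DF z lam) e).mp h1

/-- **PAR** -/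
theorem par : PAR.{u} := by
  intro F _ _ H n φ hM h5 hfx g lam h0 hy
  have := finite8 (F := F)
  obtain ⟨p, hp, hch⟩ := exists_char F
  have := Fact.mk hp
  obtain ⟨R, hR, hRp, hn⟩ := par_gen p (y := fun a => φ a) hfx h0 hy
  have hn' : ∀ h ∈ H, ∀ x ∈ R, h * x * h⁻¹ ∈ R := fun h hh => hn h fun a => by
    obtain ⟨b, hb⟩ := hM.norm h hh _ ⟨a, rfl⟩
    exact ⟨b, hb.symm⟩
  exact maxAlt_min hM h5 hR (le_of_norm hM.coatom hR (ne_top_of_pgroup hRp) hn') (Or.inl hRp) hn'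

/-- a subspace of the nilradical of a Borel subalgebra has its stabilizer in a proper parabolic subgroup -/
theorem exists_par_of_inN {K : Type u} [Field K] {W : Submodule K (L8 K)} (hW : W ≠ ⊥) {g₀ : G8 K}
    (hg₀ : ∀ w ∈ W, InN (act g₀ w)) : ∃ (g : G8 K) (lam : Q8 →+ ℝ), lam ≠ 0 ∧
      ∀ y : G8 K, (∀ w ∈ W, act y w ∈ W) → g * y * g⁻¹ ∈ St K lam := by
  obtain ⟨g, lam, ho, hd⟩ := Kem.exists_opt hg₀
  refine ⟨g, lam, fun e => ?_, fun y hy => PL_le_St lam (ho.rel hd (g₂ := g * y) fun v hv => ?_)⟩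
  · obtain ⟨v, hv, hv0⟩ := (Submodule.ne_bot_iff W).1 hW
    obtain ⟨i, hi⟩ := Function.ne_iff.1 (fun h => hv0 (act_eq_zero h) : act g v ≠ 0)
    have h2 := mem_Ge.1 (ho.1 v hv i hi)
    rw [e] at h2
    exact absurd h2 (by norm_num)
  · rw [act_mul]
    exact ho.1 _ (hy v hv)

/-- **PARW** -/
theorem parw : PARW.{u} := by
  intro F _ _ H n φ hM h5 hfx W hW hst ⟨g₀, hg₀⟩
  obtain ⟨g, lam, h0, h⟩ := exists_par_of_inN hW hg₀
  exact par F H n φ hM h5 hfx g lam h0 fun a => h _ (hst a)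

/-- **STAB** -/
theorem stab_box : STAB.{u} := by
  intro F _ _ H hH W h0 h1 hW g hg
  have hle : H ≤ (stabL W).comap emb0 := fun h hh => ⟨hW h hh, by
    rw [← map_inv]
    exact hW h⁻¹ (H.inv_mem hh)⟩
  have hne : (stabL W).comap (emb0 : G8 F →* G8 (Kb F)) ≠ ⊤ := fun ht => by
    have h2 : W = ⊥ ∨ W = ⊤ := by
      refine Cfsg.Agent.H955.L64.irr_gen W fun r w hw => ?_
      have h3 : mx (xr r (1 : Kb F)) = chevE8.xMat (Kb F) r 1 := by
        rw [mx_xr]
        exact Cfsg.Agent.ChevalleyStructure.Elts.x_of_lt r.isLt _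
      have h4 : xr r (1 : F) ∈ (stabL W).comap (emb0 : G8 F →* G8 (Kb F)) := ht ▸ Subgroup.mem_top _
      have h5 := h4.1 w hw
      rw [show emb0 (xr r (1 : F)) = xr r (algebraMap F (Kb F) 1) from em_xr _ r 1, map_one] at h5
      rw [← h3]
      exact h5
    rcases h2 with h | h
    exacts [h0 h, h1 h]
  have he : (stabL W).comap emb0 = H := by
    rcases hle.eq_or_lt with h | h
    · exact h.symm
    · exact absurd (hH.2 _ h) hne
  rw [← he]
  refine ⟨hg, fun w hw => ?_⟩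
  let f : ↥W →ₗ[Kb F] ↥W := (LK (Kb F) (emb0 g)).restrict hg
  have hf : Function.Injective f := fun a b hab => Subtype.ext (act_injective (emb0 g) (congrArg Subtype.val hab))
  obtain ⟨y, hy⟩ := (LinearMap.injective_iff_surjective.1 hf) ⟨w, hw⟩
  have h2 : act (emb0 g) (y : L8 (Kb F)) = w := congrArg Subtype.val hy
  rw [← h2, act_inv]
  exact y.2

end Cfsg.Agent.E8A.Par
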